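import Cfsg.Agent.Lib.FT.FrobFree
import Cfsg.Agent.Lib.OddChar.ThompsonFpf

/-! # The Wielandt-type fixed point formula for Frobenius groups acting coprimely. -/

set_option autoImplicit false

namespace Cfsg.Agent.Lib.FT

open Module

section Action

variable {Q F : Type*} [Group Q] [Group F]

/-- The fixed points of a subgroup under an action by automorphisms. -/
def fixOf (α : F →* MulAut Q) (Y : Subgroup F) : Subgroup Q where
  carrier := {x | ∀ y ∈ Y, α y x = x}
  mul_mem' := fun ha hb y hy => by rw [map_mul, ha y hy, hb y hy]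
  one_mem' := fun y _ => map_one _
  inv_mem' := fun ha y hy => by rw [map_inv, ha y hy]

@[simp] theorem mem_fixOf {α : F →* MulAut Q} {Y : Subgroup F} {x : Q} : x ∈ fixOf α Y ↔ ∀ y ∈ Y, α y x = x := Iff.rfl

/-- The action on an invariant subgroup. -/
def subAct (α : F →* MulAut Q) (N : Subgroup Q) (hN : ∀ g, ∀ n ∈ N, α g n ∈ N) : F →* MulAut ↥N where
  toFun g :=
    { toFun := fun n => ⟨α g n, hN g n n.2⟩
      invFun := fun n => ⟨α g⁻¹ n, hN g⁻¹ n n.2⟩
      left_inv := fun n => Subtype.ext (by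
        change α g⁻¹ (α g n) = n
        rw [← MulAut.mul_apply, ← map_mul, inv_mul_cancel, map_one, MulAut.one_apply])
      right_inv := fun n => Subtype.ext (by
        change α g (α g⁻¹ n) = n
        rw [← MulAut.mul_apply, ← map_mul, mul_inv_cancel, map_one, MulAut.one_apply])
      map_mul' := fun a b => Subtype.ext (by
        change α g (a * b) = α g a * α g b
        rw [map_mul]) }
  map_one' := by
    ext n
    simp
  map_mul' a b := by
    ext n
    simp

@[simp] theorem subAct_apply (α : F →* MulAut Q) (N : Subgroup Q) (hN : ∀ g, ∀ n ∈ N, α g n ∈ N) (g : F) (n : ↥N) :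
    ((subAct α N hN g n : ↥N) : Q) = α g n := rfl

/-- The action on a quotient. -/
noncomputable def quotAct (α : F →* MulAut Q) (N : Subgroup Q) [N.Normal] (hN : ∀ g, ∀ n ∈ N, α g n ∈ N) :
    F →* MulAut (Q ⧸ N) where
  toFun g := QuotientGroup.congr N N (α g) (by
    apply le_antisymm
    · rintro _ ⟨n, hn, rfl⟩
      exact hN g n hn
    · intro n hn
      refine ⟨α g⁻¹ n, hN g⁻¹ n hn, ?_⟩
      change α g (α g⁻¹ n) = n
      rw [← MulAut.mul_apply, ← map_mul, mul_inv_cancel, map_one, MulAut.one_apply])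
  map_one' := by
    ext x
    induction x using QuotientGroup.induction_on with
    | H x => simp [QuotientGroup.congr_mk']
  map_mul' a b := by
    ext x
    induction x using QuotientGroup.induction_on with
    | H x => simp [QuotientGroup.congr_mk']

@[simp] theorem quotAct_mk (α : F →* MulAut Q) (N : Subgroup Q) [N.Normal] (hN : ∀ g, ∀ n ∈ N, α g n ∈ N) (g : F) (x : Q) :
    quotAct α N hN g (x : Q ⧸ N) = ((α g x : Q) : Q ⧸ N) := rfl

variable [Finite Q] [Finite F]

/-- Fixed points lift through an abelian invariant normal subgroup of coprime order. -/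
theorem exists_fixed_lift (α : F →* MulAut Q) (Y : Subgroup F) (N : Subgroup Q) [N.Normal]
    (hcomm : ∀ a ∈ N, ∀ b ∈ N, a * b = b * a) (hN : ∀ g, ∀ n ∈ N, α g n ∈ N)
    (hcop : Nat.Coprime (Nat.card N) (Nat.card Y)) (x : Q) (hx : ∀ y ∈ Y, x⁻¹ * α y x ∈ N) :
    ∃ n ∈ N, ∀ y ∈ Y, α y (x * n) = x * n := by
  classical
  letI : CommGroup ↥N := { (inferInstance : Group ↥N) with
    mul_comm := fun a b => Subtype.ext (hcomm a a.2 b b.2) }
  letI := Fintype.ofFinite ↥Y
  let c : ↥Y → ↥N := fun y => ⟨x⁻¹ * α y x, hx y y.2⟩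
  have hc : ∀ y z : ↥Y, subAct α N hN y (c z) = (c y)⁻¹ * c (y * z) := by
    intro y z
    apply Subtype.ext
    change α y (x⁻¹ * α z x) = (x⁻¹ * α y x)⁻¹ * (x⁻¹ * α ((y : F) * z) x)
    rw [map_mul, map_inv, map_mul, MulAut.mul_apply]
    group
  let P : ↥N := ∏ z : ↥Y, c z
  let pw := powCoprime (G := ↥N) hcop
  have hpw : ∀ a : ↥N, pw a = a ^ Nat.card Y := fun a => rfl
  let t : ↥N := pw.symm P
  have ht : t ^ Nat.card Y = P := by
    rw [← hpw]
    exact pw.apply_symm_apply P
  have hact : ∀ y : ↥Y, subAct α N hN y t = (c y)⁻¹ * t := by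
    intro y
    apply pw.injective
    rw [hpw, hpw, mul_pow, ht, ← map_pow, ht]
    simp only [P]
    rw [map_prod]
    simp only [hc]
    rw [Finset.prod_mul_distrib, Finset.prod_const, Finset.card_univ, ← Nat.card_eq_fintype_card, inv_pow]
    congr 1
    exact Fintype.prod_equiv (Equiv.mulLeft y) _ _ fun z => rfl
  refine ⟨t, t.2, fun y hy => ?_⟩
  have h1 := congrArg Subtype.val (hact ⟨y, hy⟩)
  have h2 : α y (t : Q) = (x⁻¹ * α y x)⁻¹ * t := h1
  rw [map_mul, h2]
  group

omit [Finite Q] [Finite F] in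
/-- Cardinality of fixed points along an invariant normal subgroup, assuming lifting. -/
theorem card_fixOf_mul [Finite Q] (α : F →* MulAut Q) (Y : Subgroup F) (N : Subgroup Q) [N.Normal]
    (hN : ∀ g, ∀ n ∈ N, α g n ∈ N)
    (hlift : ∀ x : Q, (∀ y ∈ Y, x⁻¹ * α y x ∈ N) → ∃ n ∈ N, ∀ y ∈ Y, α y (x * n) = x * n) :
    Nat.card (fixOf α Y) = Nat.card (fixOf (subAct α N hN) Y) * Nat.card (fixOf (quotAct α N hN) Y) := by
  let f : ↥(fixOf α Y) →* Q ⧸ N := (QuotientGroup.mk' N).comp (fixOf α Y).subtype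
  have h1 : Nat.card f.ker = Nat.card (fixOf (subAct α N hN) Y) := by
    refine Nat.card_congr
      { toFun := fun c => ⟨⟨c.1.1, (QuotientGroup.eq_one_iff _).mp c.2⟩, fun y hy =>
          Subtype.ext (c.1.2 y hy)⟩
        invFun := fun n => ⟨⟨n.1.1, fun y hy => congrArg Subtype.val (n.2 y hy)⟩,
          (QuotientGroup.eq_one_iff _).mpr n.1.2⟩
        left_inv := fun c => rfl
        right_inv := fun n => rfl }
  have h2 : f.range = fixOf (quotAct α N hN) Y := by
    apply le_antisymm
    · rintro _ ⟨c, rfl⟩ y hy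
      change quotAct α N hN y ((c : Q) : Q ⧸ N) = ((c : Q) : Q ⧸ N)
      rw [quotAct_mk, c.2 y hy]
    · intro z hz
      induction z using QuotientGroup.induction_on with
      | H x =>
        have hx : ∀ y ∈ Y, x⁻¹ * α y x ∈ N := by
          intro y hy
          have h3 := hz y hy
          rw [quotAct_mk] at h3
          exact QuotientGroup.eq.mp h3.symm
        obtain ⟨n, hn, hn2⟩ := hlift x hx
        refine ⟨⟨x * n, hn2⟩, ?_⟩
        change ((x * n : Q) : Q ⧸ N) = x
        rw [QuotientGroup.mk_mul, (QuotientGroup.eq_one_iff n).mpr hn, mul_one]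
  have h3 := Subgroup.card_mul_index f.ker
  rw [Subgroup.index_ker, h2, h1] at h3
  exact h3.symm

end Action

section Elem

variable {A F : Type*} [Group A] [Finite A] [Group F] [Finite F]

/-- The formula for elementary abelian groups, with the module structure given. -/
theorem fix_formula_elem_aux {A F : Type*} [CommGroup A] [Finite A] [Group F] [Finite F] {p : ℕ} [Fact p.Prime]
    [Module (ZMod p) (Additive A)]
    (α : F →* MulAut A) (U E : Subgroup F) (hU : Group.IsSolvable ↥U)
    (hEU : ∀ e ∈ E, ∀ n ∈ U, e * n * e⁻¹ ∈ U) (hfpf : ∀ e ∈ E, e ≠ 1 → ∀ n ∈ U, e * n = n * e → n = 1)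
    (hcop : ¬ p ∣ Nat.card ↥(U ⊔ E)) :
    Nat.card (fixOf α (U ⊔ E)) ^ Nat.card E * Nat.card A =
      Nat.card (fixOf α E) ^ Nat.card E * Nat.card (fixOf α U) := by
  classical
  haveI : Finite (Additive A) := inferInstanceAs (Finite A)
  haveI : Module.Finite (ZMod p) (Additive A) := Module.Finite.of_finite
  let f : F → End (ZMod p) (Additive A) := fun g =>
    (MulEquiv.toAdditive (α g) : Additive A ≃+ Additive A).toAddMonoidHom.toZModLinearMap p
  have hf : ∀ (g : F) (a : Additive A), f g a = Additive.ofMul (α g (Additive.toMul a)) := fun _ _ => rfl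
  let ρ : F →* End (ZMod p) (Additive A) :=
    { toFun := f
      map_one' := LinearMap.ext fun x => by
        rw [hf, Module.End.one_apply]
        simp
      map_mul' := fun a b => LinearMap.ext fun x => by
        rw [Module.End.mul_apply, hf, hf, hf]
        simp }
  have hρ : ∀ (g : F) (a : A), ρ g (Additive.ofMul a) = Additive.ofMul (α g a) := fun _ _ => rfl
  have hcard : ∀ Y : Subgroup F, Nat.card (fixOf α Y) = p ^ finrank (ZMod p) (fx ρ Y) := by
    intro Y
    have h1 : Nat.card (fixOf α Y) = Nat.card (fx ρ Y) := by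
      refine Nat.card_congr
        { toFun := fun x => ⟨Additive.ofMul x.1, fun y hy => by
            rw [hρ, x.2 y hy]⟩
          invFun := fun x => ⟨Additive.toMul x.1, fun y hy => by
            have := x.2 y hy
            exact congrArg Additive.toMul this⟩
          left_inv := fun x => rfl
          right_inv := fun x => rfl }
    rw [h1, Module.natCard_eq_pow_finrank (K := ZMod p), Nat.card_zmod]
  have hcardA : Nat.card A = p ^ finrank (ZMod p) (Additive A) := by
    have h1 : Nat.card A = Nat.card (Additive A) := rfl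
    rw [h1, Module.natCard_eq_pow_finrank (K := ZMod p), Nat.card_zmod]
  have hK : (Nat.card ↥(U ⊔ E) : ZMod p) ≠ 0 := by
    rw [Ne, ZMod.natCast_eq_zero_iff]
    exact hcop
  have h := fx_formula ρ U E hU hEU hfpf hK
  rw [hcard, hcard, hcard, hcardA, ← pow_mul, ← pow_mul, ← pow_add, ← pow_add]
  congr 1
  linarith [mul_comm (Nat.card E) (finrank (ZMod p) (fx ρ (U ⊔ E))), mul_comm (Nat.card E) (finrank (ZMod p) (fx ρ E))]

/-- The formula for elementary abelian groups. -/
theorem fix_formula_elem {p : ℕ} [Fact p.Prime] (hcomm : ∀ a b : A, a * b = b * a) (hp : ∀ a : A, a ^ p = 1)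
    (α : F →* MulAut A) (U E : Subgroup F) (hU : Group.IsSolvable ↥U)
    (hEU : ∀ e ∈ E, ∀ n ∈ U, e * n * e⁻¹ ∈ U) (hfpf : ∀ e ∈ E, e ≠ 1 → ∀ n ∈ U, e * n = n * e → n = 1)
    (hcop : ¬ p ∣ Nat.card ↥(U ⊔ E)) :
    Nat.card (fixOf α (U ⊔ E)) ^ Nat.card E * Nat.card A =
      Nat.card (fixOf α E) ^ Nat.card E * Nat.card (fixOf α U) := by
  letI : CommGroup A := { (inferInstance : Group A) with mul_comm := hcomm }
  letI : Module (ZMod p) (Additive A) := AddCommGroup.zmodModule (n := p) (fun x => by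
    change Additive.ofMul ((Additive.toMul x) ^ p) = 0
    rw [hp]
    rfl)
  exact fix_formula_elem_aux (p := p) α U E hU hEU hfpf hcop

end Elem

section Induct

/-- A nontrivial solvable group has a nontrivial elementary abelian characteristic subgroup. -/
theorem exists_elem_char (Q : Type*) [Group Q] [Finite Q] [Nontrivial Q] (hQ : Group.IsSolvable Q) :
    ∃ (p : ℕ) (_ : Fact p.Prime) (N : Subgroup Q), N ≠ ⊥ ∧ N.Characteristic ∧ (∀ a ∈ N, ∀ b ∈ N, a * b = b * a) ∧
      ∀ a ∈ N, a ^ p = 1 := by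
  classical
  have hex := hQ.solvable
  let n := Nat.find hex
  have hn : derivedSeries Q n = ⊥ := Nat.find_spec hex
  have hn0 : n ≠ 0 := by
    intro h
    have h2 := hn
    rw [h, derivedSeries_zero] at h2
    exact top_ne_bot h2
  obtain ⟨m, hm⟩ := Nat.exists_eq_succ_of_ne_zero hn0
  let D := derivedSeries Q m
  have hD : D ≠ ⊥ := Nat.find_min hex (by omega : m < n)
  have hDc : ∀ a ∈ D, ∀ b ∈ D, a * b = b * a := by
    intro a ha b hb
    have h1 : ⁅D, D⁆ = ⊥ := by
      rw [← hn, hm]
      rfl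
    have h2 := Subgroup.commutator_mem_commutator ha hb
    rw [h1, Subgroup.mem_bot, commutatorElement_eq_one_iff_mul_comm] at h2
    exact h2
  haveI : Nontrivial ↥D := (Subgroup.nontrivial_iff_ne_bot D).mpr hD
  obtain ⟨p, hp, hpd⟩ := Nat.exists_prime_and_dvd (Finite.one_lt_card (α := ↥D)).ne'
  haveI := Fact.mk hp
  obtain ⟨y, hy⟩ := exists_prime_orderOf_dvd_card' p hpd
  let N : Subgroup Q :=
    { carrier := {a | a ∈ D ∧ a ^ p = 1}
      mul_mem' := fun ha hb => ⟨D.mul_mem ha.1 hb.1, by
        rw [(show Commute _ _ from hDc _ ha.1 _ hb.1).mul_pow, ha.2, hb.2, one_mul]⟩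
      one_mem' := ⟨D.one_mem, one_pow _⟩
      inv_mem' := fun ha => ⟨D.inv_mem ha.1, by rw [inv_pow, ha.2, inv_one]⟩ }
  have hDchar : ∀ i, (derivedSeries Q i).Characteristic := by
    intro i
    induction i with
    | zero =>
      rw [derivedSeries_zero]
      infer_instance
    | succ i ih =>
      rw [derivedSeries_succ]
      haveI := ih
      infer_instance
  refine ⟨p, inferInstance, N, ?_, ?_, fun a ha b hb => hDc a ha.1 b hb.1, fun a ha => ha.2⟩
  · intro hN
    have h1 : (y : Q) ∈ N := ⟨y.2, by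
      have := pow_orderOf_eq_one y
      rw [hy] at this
      exact congrArg Subtype.val this⟩
    rw [hN, Subgroup.mem_bot] at h1
    have h2 : y = 1 := Subtype.ext h1
    rw [h2, orderOf_one] at hy
    exact hp.one_lt.ne hy
  · rw [Subgroup.characteristic_iff_le_comap]
    intro φ a ha
    have h1 : φ a ∈ D := by
      have := (Subgroup.characteristic_iff_le_comap.mp (hDchar m)) φ ha.1
      exact this
    exact ⟨h1, by
      change φ a ^ p = 1
      rw [← map_pow, ha.2, map_one]⟩

variable {F : Type*} [Group F] [Finite F]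

/-- **The fixed point formula** in the abstract setting. -/
theorem fix_formula (U E : Subgroup F) (hU : Group.IsSolvable ↥U)
    (hEU : ∀ e ∈ E, ∀ n ∈ U, e * n * e⁻¹ ∈ U) (hfpf : ∀ e ∈ E, e ≠ 1 → ∀ n ∈ U, e * n = n * e → n = 1)
    (c : ℕ) : ∀ (Q : Type*) [Group Q] [Finite Q], Nat.card Q = c → ∀ (α : F →* MulAut Q), Group.IsSolvable Q →
      Nat.Coprime (Nat.card Q) (Nat.card ↥(U ⊔ E)) →
      Nat.card (fixOf α (U ⊔ E)) ^ Nat.card E * Nat.card Q =
        Nat.card (fixOf α E) ^ Nat.card E * Nat.card (fixOf α U) := by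
  induction c using Nat.strong_induction_on with
  | _ c ih =>
    intro Q _ _ hc α hQ hcop
    by_cases htriv : Subsingleton Q
    · have h1 : ∀ Y : Subgroup F, Nat.card (fixOf α Y) = 1 := fun Y => by
        haveI : Subsingleton ↥(fixOf α Y) := inferInstance
        exact Nat.card_unique
      rw [h1, h1, h1, Nat.card_of_subsingleton (1 : Q)]
    rw [not_subsingleton_iff_nontrivial] at htriv
    obtain ⟨p, hpf, N, hN1, hNc, hNcomm, hNp⟩ := exists_elem_char Q hQ
    haveI : N.Normal := inferInstance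
    have hNα : ∀ g, ∀ n ∈ N, α g n ∈ N := fun g n hn =>
      (Subgroup.characteristic_iff_le_comap.mp hNc) (α g) hn
    have hcardN : Nat.card N ∣ Nat.card Q := Subgroup.card_subgroup_dvd_card N
    have hN2 : 1 < Nat.card N := by
      rw [Finite.one_lt_card_iff_nontrivial]
      exact (Subgroup.nontrivial_iff_ne_bot N).mpr hN1
    have hmul : Nat.card N * Nat.card (Q ⧸ N) = Nat.card Q := by
      rw [mul_comm]
      exact (Subgroup.card_eq_card_quotient_mul_card_subgroup N).symm
    have hcop1 : Nat.Coprime (Nat.card N) (Nat.card ↥(U ⊔ E)) := Nat.Coprime.coprime_dvd_left hcardN hcop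
    have hcop2 : Nat.Coprime (Nat.card (Q ⧸ N)) (Nat.card ↥(U ⊔ E)) :=
      Nat.Coprime.coprime_dvd_left (Dvd.intro_left _ hmul) hcop
    have hdvd : ∀ Y : Subgroup F, Y ≤ U ⊔ E → Nat.Coprime (Nat.card N) (Nat.card Y) := fun Y hY =>
      Nat.Coprime.coprime_dvd_right (Subgroup.card_dvd_of_le hY) hcop1
    have hY : ∀ Y : Subgroup F, Y ≤ U ⊔ E → Nat.card (fixOf α Y) =
        Nat.card (fixOf (subAct α N hNα) Y) * Nat.card (fixOf (quotAct α N hNα) Y) := fun Y hY =>
      card_fixOf_mul α Y N hNα fun x hx => exists_fixed_lift α Y N hNcomm hNα (hdvd Y hY) x hx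
    -- the two smaller cases
    have hpdvd : ¬ p ∣ Nat.card ↥(U ⊔ E) := by
      intro h
      obtain ⟨x, hx⟩ : ∃ x : ↥N, x ≠ 1 := by
        by_contra hcon
        push Not at hcon
        apply hN1
        rw [Subgroup.eq_bot_iff_forall]
        intro a ha
        have := hcon ⟨a, ha⟩
        exact congrArg Subtype.val this
      have h1 : orderOf x = p := by
        apply orderOf_eq_prime
        · exact Subtype.ext (hNp x x.2)
        · exact hx
      have h2 : p ∣ Nat.card N := h1 ▸ orderOf_dvd_natCard x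
      have h3 := Nat.dvd_gcd h2 h
      rw [hcop1] at h3
      exact hpf.out.one_lt.ne' (Nat.dvd_one.mp h3)
    have h1 := fix_formula_elem (A := ↥N) (p := p) (fun a b => Subtype.ext (hNcomm a a.2 b b.2))
      (fun a => Subtype.ext (hNp a a.2)) (subAct α N hNα) U E hU hEU hfpf hpdvd
    have h2 := ih (Nat.card (Q ⧸ N)) (by
      rw [← hc, ← hmul]
      have : 0 < Nat.card (Q ⧸ N) := Nat.card_pos
      nlinarith) (Q ⧸ N) rfl (quotAct α N hNα) (by haveI := hQ; infer_instance) hcop2
    rw [hY _ le_rfl, hY E le_sup_right, hY U le_sup_left, ← hmul, mul_pow, mul_pow]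
    calc _ = (Nat.card (fixOf (subAct α N hNα) (U ⊔ E)) ^ Nat.card E * Nat.card N) *
          (Nat.card (fixOf (quotAct α N hNα) (U ⊔ E)) ^ Nat.card E * Nat.card (Q ⧸ N)) := by ring
      _ = _ := by rw [h1, h2]; ring

end Induct

section Concrete

variable {X : Type*} [Group X] [Finite X]

/-- Fixed points of the conjugation action. -/
theorem card_fixOf_conj (W H : Subgroup X) (hHn : ∀ x ∈ W, ∀ h ∈ H, x * h * x⁻¹ ∈ H) (Y : Subgroup ↥W) :
    Nat.card (fixOf (conjOn W H hHn) Y) =
      Nat.card ↥(H ⊓ Subgroup.centralizer ((Y.map W.subtype : Subgroup X) : Set X)) := by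
  refine Nat.card_congr
    { toFun := fun x => ⟨x.1.1, x.1.2, ?_⟩
      invFun := fun x => ⟨⟨x.1, x.2.1⟩, ?_⟩
      left_inv := fun x => rfl
      right_inv := fun x => rfl }
  · refine Subgroup.mem_centralizer_iff.mpr ?_
    rintro _ ⟨y, hy, rfl⟩
    have h1 : (y : X) * x.1.1 * (y : X)⁻¹ = x.1.1 := congrArg Subtype.val (x.2 y hy)
    have h2 : (y : X) * x.1.1 = x.1.1 * y := by
      calc (y : X) * x.1.1 = ((y : X) * x.1.1 * (y : X)⁻¹) * y := by group
        _ = _ := by rw [h1]
    exact h2
  · intro y hy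
    apply Subtype.ext
    have h1 := (Subgroup.mem_centralizer_iff.mp x.2.2) (y : X) ⟨y, hy, rfl⟩
    change (y : X) * x.1 * (y : X)⁻¹ = x.1
    rw [h1]
    group

/-- **Wielandt's fixed point formula** for a Frobenius group acting coprimely on a solvable group. -/
theorem frobenius_fix_formula (U E H : Subgroup X) (hE1 : E ≠ ⊥)
    (hUn : ∀ e ∈ E, ∀ u ∈ U, e * u * e⁻¹ ∈ U) (hfpf : ∀ e ∈ E, e ≠ 1 → ∀ u ∈ U, e * u = u * e → u = 1)
    (hHn : ∀ x ∈ U ⊔ E, ∀ h ∈ H, x * h * x⁻¹ ∈ H) (hsolv : Group.IsSolvable H)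
    (hcop : Nat.Coprime (Nat.card H) (Nat.card ↥(U ⊔ E))) :
    Nat.card ↥(H ⊓ Subgroup.centralizer ((U ⊔ E : Subgroup X) : Set X)) ^ Nat.card E * Nat.card H =
      Nat.card ↥(H ⊓ Subgroup.centralizer (E : Set X)) ^ Nat.card E *
        Nat.card ↥(H ⊓ Subgroup.centralizer (U : Set X)) := by
  classical
  set W := U ⊔ E with hW
  let U' : Subgroup ↥W := U.subgroupOf W
  let E' : Subgroup ↥W := E.subgroupOf W
  have hmapU : U'.map W.subtype = U := Subgroup.map_subgroupOf_eq_of_le le_sup_left
  have hmapE : E'.map W.subtype = E := Subgroup.map_subgroupOf_eq_of_le le_sup_right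
  have hmapS : (U' ⊔ E').map W.subtype = W := by
    rw [Subgroup.map_sup, hmapU, hmapE]
  have htop : U' ⊔ E' = ⊤ := by
    apply Subgroup.map_injective W.subtype_injective
    rw [hmapS, ← MonoidHom.range_eq_map, Subgroup.range_subtype]
  have hcardE : Nat.card E' = Nat.card E :=
    Nat.card_congr (Subgroup.subgroupOfEquivOfLe (le_sup_right : E ≤ W)).toEquiv
  -- normality of the kernel
  have hnorm : U'.Normal := by
    have h1 : W ≤ Subgroup.normalizer (U : Set X) := by
      rw [hW]
      refine sup_le (Subgroup.le_normalizer) ?_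
      intro e he
      rw [Subgroup.mem_normalizer_iff]
      intro h
      constructor
      · exact hUn e he h
      · intro h2
        have := hUn e⁻¹ (E.inv_mem he) _ h2
        simpa [mul_assoc] using this
    constructor
    intro n hn g
    rw [Subgroup.mem_subgroupOf] at hn ⊢
    exact (Subgroup.mem_normalizer_iff.mp (h1 g.2) n).mp hn
  -- the kernel is nilpotent
  have hnil : Group.IsSolvable ↥U' := by
    haveI : Nontrivial ↥E := (Subgroup.nontrivial_iff_ne_bot E).mpr hE1
    obtain ⟨r, hr, hrd⟩ := Nat.exists_prime_and_dvd (Finite.one_lt_card (α := ↥E)).ne'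
    haveI := Fact.mk hr
    obtain ⟨e₀, he₀⟩ := exists_prime_orderOf_dvd_card' r hrd
    let k : ↥W := ⟨e₀, (le_sup_right : E ≤ W) e₀.2⟩
    have hk : k ^ r = 1 := by
      apply Subtype.ext
      have := pow_orderOf_eq_one e₀
      rw [he₀] at this
      have h3 : (e₀ : X) ^ r = 1 := congrArg Subtype.val this
      exact h3
    have hne : (e₀ : X) ≠ 1 := by
      intro h
      have h2 : e₀ = 1 := Subtype.ext h
      rw [h2, orderOf_one] at he₀
      exact hr.one_lt.ne he₀
    haveI := hnorm
    have := OddChar.nilpotent_of_fpf_element U' hr hk (fun h hh hc => by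
      apply Subtype.ext
      exact hfpf e₀ e₀.2 hne h (Subgroup.mem_subgroupOf.mp hh) (congrArg Subtype.val hc))
    infer_instance
  have hmain := fix_formula U' E' hnil
    (fun e he n hn => by
      rw [Subgroup.mem_subgroupOf] at hn ⊢
      exact hUn e (Subgroup.mem_subgroupOf.mp he) n hn)
    (fun e he hne n hn hc => by
      apply Subtype.ext
      exact hfpf e (Subgroup.mem_subgroupOf.mp he) (fun h => hne (Subtype.ext h)) n
        (Subgroup.mem_subgroupOf.mp hn) (congrArg Subtype.val hc))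
    (Nat.card H) ↥H rfl (conjOn W H hHn) hsolv (by
      rw [htop, Subgroup.card_top]
      exact hcop)
  rw [card_fixOf_conj, card_fixOf_conj, card_fixOf_conj, hmapS, hmapU, hmapE, hcardE] at hmain
  exact hmain

end Concrete

end Cfsg.Agent.Lib.FT
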